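import Cfsg.Agent.Hughes.GT
import Cfsg.Agent.Frobenius.FPF
import Mathlib

/-!
Camina pairs: cosets outside the normal subgroup lie in single classes.
-/

set_option autoImplicit false

namespace CfsgLib.Camina

variable {G : Type*} [Group G]

/-- `g n` is conjugate to `g` for all `g` outside `N` and all `n` in `N`. -/
def IsPair (N : Subgroup G) : Prop :=
  ∀ g : G, g ∉ N → ∀ n ∈ N, ∃ x : G, x * g * x⁻¹ = g * n

/-- The preimage of a subgroup under a surjection. -/
theorem card_comap_surjective {A : Type*} [Group A] [Finite G] (f : G →* A) (hf : Function.Surjective f)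
    (C : Subgroup A) : Nat.card (C.comap f) = Nat.card f.ker * Nat.card C := by
  have h1 := (C.comap f).card_mul_index
  rw [Subgroup.index_comap_of_surjective _ hf] at h1
  have h2 := f.ker.card_mul_index
  rw [Subgroup.index_ker, MonoidHom.range_eq_top.2 hf, Subgroup.card_top] at h2
  have h3 := C.card_mul_index
  have hfin : Finite A := Finite.of_surjective f hf
  apply Nat.eq_of_mul_eq_mul_right (Nat.pos_of_ne_zero C.index_ne_zero_of_finite)
  rw [h1, mul_assoc, h3, h2]

/-- Orbit and stabiliser for conjugation by the elements of a subgroup. -/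
theorem card_range_conj_mul [Finite G] (D : Subgroup G) (g : G) :
    Nat.card (Set.range fun x : D => (x : G) * g * (x : G)⁻¹) *
      Nat.card ((Subgroup.centralizer {g}).subgroupOf D) = Nat.card D := by
  let S := (Subgroup.centralizer {g}).subgroupOf D
  have key : ∀ a b : D, QuotientGroup.leftRel S a b ↔
      (a : G) * g * (a : G)⁻¹ = (b : G) * g * (b : G)⁻¹ := by
    intro a b
    rw [QuotientGroup.leftRel_apply, Subgroup.mem_subgroupOf, Subgroup.mem_centralizer_singleton_iff]
    simp only [Subgroup.coe_mul, InvMemClass.coe_inv]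
    constructor
    · intro h
      calc (a : G) * g * (a : G)⁻¹ = a * (g * ((a : G)⁻¹ * b)) * (b : G)⁻¹ := by group
        _ = a * (((a : G)⁻¹ * b) * g) * (b : G)⁻¹ := by rw [h]
        _ = _ := by group
    · intro h
      calc (a : G)⁻¹ * b * g = (a : G)⁻¹ * ((b : G) * g * (b : G)⁻¹) * b := by group
        _ = (a : G)⁻¹ * ((a : G) * g * (a : G)⁻¹) * b := by rw [h]
        _ = _ := by group
  let e : (D ⧸ S) ≃ Set.range fun x : D => (x : G) * g * (x : G)⁻¹ :=
    Equiv.ofBijective
      (Quotient.lift (fun x : D => (⟨(x : G) * g * (x : G)⁻¹, x, rfl⟩ :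
          Set.range fun x : D => (x : G) * g * (x : G)⁻¹))
        fun a b h => Subtype.ext ((key a b).1 h))
      ⟨fun u v => Quotient.inductionOn₂ u v fun a b h =>
          Quotient.sound ((key a b).2 (congrArg Subtype.val h)),
        fun ⟨_, x, rfl⟩ => ⟨Quotient.mk'' x, rfl⟩⟩
  rw [← Nat.card_congr e, ← Subgroup.card_eq_card_quotient_mul_card_subgroup]

variable {N : Subgroup G} [N.Normal]

theorem mem_centralizer_mk_of_conj {g n x : G} (hn : n ∈ N) (h : x * g * x⁻¹ = g * n) :
    x ∈ (Subgroup.centralizer {(g : G ⧸ N)}).comap (QuotientGroup.mk' N) := by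
  rw [Subgroup.mem_comap, Subgroup.mem_centralizer_singleton_iff]
  show (x : G ⧸ N) * (g : G ⧸ N) = (g : G ⧸ N) * (x : G ⧸ N)
  rw [← QuotientGroup.mk_mul, ← QuotientGroup.mk_mul, mul_inv_eq_iff_eq_mul.1 h,
    QuotientGroup.mk_mul, QuotientGroup.mk_mul N g n, (QuotientGroup.eq_one_iff n).2 hn, mul_one,
    QuotientGroup.mk_mul]

theorem range_conj_subset {g : G} {D : Subgroup G}
    (hD : D ≤ (Subgroup.centralizer {(g : G ⧸ N)}).comap (QuotientGroup.mk' N)) (x : D) :
    g⁻¹ * ((x : G) * g * (x : G)⁻¹) ∈ N := by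
  have h := hD x.2
  rw [Subgroup.mem_comap, Subgroup.mem_centralizer_singleton_iff] at h
  rw [← QuotientGroup.eq_one_iff]
  simp only [QuotientGroup.mk_mul, QuotientGroup.mk_inv]
  rw [show ((x : G) : G ⧸ N) * (g : G ⧸ N) = (g : G ⧸ N) * ((x : G) : G ⧸ N) from h]
  group

/-- In a pair, an element outside `N` has the centraliser order of its image. -/
theorem card_centralizer [Finite G] (hP : IsPair N) {g : G} (hg : g ∉ N) :
    Nat.card (Subgroup.centralizer {g}) = Nat.card (Subgroup.centralizer {(g : G ⧸ N)}) := by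
  set D := (Subgroup.centralizer {(g : G ⧸ N)}).comap (QuotientGroup.mk' N)
  have h1 := card_range_conj_mul D g
  have h2 : Nat.card (Set.range fun x : D => (x : G) * g * (x : G)⁻¹) = Nat.card N := by
    refine (Nat.card_congr (Equiv.ofBijective
      (fun n : N => (⟨g * n, ?_⟩ : Set.range fun x : D => (x : G) * g * (x : G)⁻¹))
      ⟨fun a b h => Subtype.ext (mul_left_cancel (congrArg Subtype.val h)), ?_⟩)).symm
    · obtain ⟨x, hx⟩ := hP g hg n n.2
      exact ⟨⟨x, mem_centralizer_mk_of_conj n.2 hx⟩, hx⟩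
    · rintro ⟨_, x, rfl⟩
      exact ⟨⟨_, range_conj_subset le_rfl x⟩, Subtype.ext (mul_inv_cancel_left g _)⟩
  have h3 : Subgroup.centralizer {g} ≤ D := fun x hx => by
    refine mem_centralizer_mk_of_conj N.one_mem ?_
    rw [Subgroup.mem_centralizer_singleton_iff] at hx
    rw [hx, mul_inv_cancel_right, mul_one]
  rw [h2, card_comap_surjective _ (QuotientGroup.mk'_surjective N), QuotientGroup.ker_mk',
    Nat.card_congr (Subgroup.subgroupOfEquivOfLe h3).toEquiv] at h1
  exact Nat.eq_of_mul_eq_mul_left Nat.card_pos h1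

/-- A subgroup covering `G ⧸ N` inherits the pair and contains the centralisers. -/
theorem IsPair.of_sup_eq_top [Finite G] (hP : IsPair N) {H : Subgroup G} (hH : H ⊔ N = ⊤) :
    IsPair (N.subgroupOf H) ∧ ∀ g ∈ H, g ∉ N → Subgroup.centralizer {g} ≤ H := by
  have hs : Function.Surjective ((QuotientGroup.mk' N).comp H.subtype) := by
    intro a
    obtain ⟨g, rfl⟩ := QuotientGroup.mk'_surjective N a
    obtain ⟨h, hh, n, hn, rfl⟩ := Subgroup.mem_sup_of_normal_right.1
      (show g ∈ H ⊔ N by rw [hH]; trivial)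
    refine ⟨⟨h, hh⟩, ?_⟩
    show (h : G ⧸ N) = ((h * n : G) : G ⧸ N)
    rw [QuotientGroup.mk_mul, (QuotientGroup.eq_one_iff n).2 hn, mul_one]
  have main : ∀ g ∈ H, g ∉ N → Subgroup.centralizer {g} ≤ H ∧
      ∀ n ∈ N, n ∈ H → ∃ x ∈ H, x * g * x⁻¹ = g * n := by
    intro g hgH hg
    set C := Subgroup.centralizer {(g : G ⧸ N)}
    set D := C.comap (QuotientGroup.mk' N) ⊓ H with hD
    have hcardD : Nat.card D = Nat.card (N.subgroupOf H) * Nat.card C := by
      have e : C.comap ((QuotientGroup.mk' N).comp H.subtype) = D.subgroupOf H := by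
        ext y
        simp [hD, Subgroup.mem_subgroupOf]
      have h := card_comap_surjective _ hs C
      rw [e, Nat.card_congr (Subgroup.subgroupOfEquivOfLe (inf_le_right : D ≤ H)).toEquiv,
        ← MonoidHom.comap_ker, QuotientGroup.ker_mk'] at h
      exact h
    let f : Set.range (fun x : D => (x : G) * g * (x : G)⁻¹) → N.subgroupOf H := fun y =>
      ⟨⟨g⁻¹ * y.1, by
        obtain ⟨x, hx⟩ := y.2
        exact H.mul_mem (H.inv_mem hgH) (hx ▸ H.mul_mem (H.mul_mem x.2.2 hgH) (H.inv_mem x.2.2))⟩, by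
        obtain ⟨x, hx⟩ := y.2
        rw [Subgroup.mem_subgroupOf]
        show g⁻¹ * y.1 ∈ N
        rw [← hx]
        exact range_conj_subset inf_le_left x⟩
    have hf : Function.Injective f := fun a b h =>
      Subtype.ext (mul_left_cancel (congrArg Subtype.val (congrArg Subtype.val h)))
    have h1 := card_range_conj_mul D g
    have h3 : Nat.card ((Subgroup.centralizer {g}).subgroupOf D) ≤ Nat.card (Subgroup.centralizer {g}) :=
      Nat.card_le_card_of_injective (fun z => (⟨(z.1 : G), z.2⟩ : Subgroup.centralizer {g}))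
        fun a b h => Subtype.ext (Subtype.ext (congrArg Subtype.val h :))
    have h4 := Nat.card_le_card_of_injective f hf
    rw [hcardD] at h1
    rw [card_centralizer hP hg] at h3
    have hpos : 0 < Nat.card C := Nat.card_pos
    have hposN : 0 < Nat.card (N.subgroupOf H) := Nat.card_pos
    have hr : Nat.card (Set.range fun x : D => (x : G) * g * (x : G)⁻¹) = Nat.card (N.subgroupOf H) := by
      nlinarith
    have hc : Nat.card ((Subgroup.centralizer {g}).subgroupOf D) = Nat.card C := by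
      rw [hr] at h1
      exact Nat.eq_of_mul_eq_mul_left hposN h1
    constructor
    · intro z hz
      have hle : Subgroup.centralizer {g} ⊓ D = Subgroup.centralizer {g} := by
        refine Subgroup.eq_of_le_of_card_ge inf_le_left (le_of_eq ?_)
        rw [card_centralizer hP hg, ← hc, ← Subgroup.inf_subgroupOf_right,
          Nat.card_congr (Subgroup.subgroupOfEquivOfLe inf_le_right).toEquiv]
      rw [← hle] at hz
      exact hz.2.2
    · intro n hnN hnH
      obtain ⟨⟨_, x, rfl⟩, hy⟩ := (hf.bijective_of_nat_card_le (le_of_eq hr.symm)).2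
        (⟨⟨n, hnH⟩, hnN⟩ : N.subgroupOf H)
      refine ⟨x, x.2.2, ?_⟩
      have := congrArg Subtype.val (congrArg Subtype.val hy)
      exact inv_mul_eq_iff_eq_mul.1 this
  refine ⟨fun g hg n hn => ?_, fun g hg hgN => (main g hg hgN).1⟩
  obtain ⟨x, hx, h⟩ := (main g g.2 hg).2 n hn n.2
  exact ⟨⟨x, hx⟩, Subtype.ext h⟩

/-- Commuting elements inside and outside `N` of coprime order. -/
theorem eq_one_of_commute (hP : IsPair N) {g x : G} (hg : g ∉ N) (hx : x ∈ N) (hc : Commute g x)
    (hco : (orderOf g).Coprime (orderOf x)) (hgo : 0 < orderOf g) : x = 1 := by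
  obtain ⟨y, hy⟩ := hP g hg x hx
  have h := hc.orderOf_mul_eq_mul_orderOf_of_coprime hco
  rw [← hy, show y * g * y⁻¹ = MulAut.conj y g from rfl, MulEquiv.orderOf_eq] at h
  exact orderOf_eq_one_iff.1 (Nat.eq_of_mul_eq_mul_left hgo (by rw [← h, mul_one]))

/-- An element of prime power order outside a subgroup. -/
theorem exists_primePow_not_mem [Finite G] {g : G} (hg : g ∉ N) :
    ∃ q : ℕ, q.Prime ∧ q ∣ N.index ∧ ∃ k : ℕ, g ^ k ∉ N ∧ ∃ m, orderOf (g ^ k) = q ^ m := by
  have hne : orderOf (g : G ⧸ N) ≠ 1 := by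
    rw [ne_eq, orderOf_eq_one_iff, QuotientGroup.eq_one_iff]
    exact hg
  obtain ⟨q, hq, hqd⟩ := Nat.exists_prime_and_dvd hne
  obtain ⟨a, k, hk, hgk⟩ := Nat.exists_eq_pow_mul_and_not_dvd (orderOf_pos g).ne' q hq.ne_one
  refine ⟨q, hq, hqd.trans (Subgroup.index_eq_card N ▸ orderOf_dvd_natCard _), k, fun h => hk ?_, a, ?_⟩
  · exact hqd.trans (orderOf_dvd_of_pow_eq_one
      (by rw [← QuotientGroup.mk_pow, (QuotientGroup.eq_one_iff _).2 h]))
  · rw [orderOf_pow' g (fun h0 => hk (by rw [h0]; exact dvd_zero q)), hgk, Nat.gcd_mul_left_left,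
      Nat.mul_div_cancel _ (Nat.pos_of_ne_zero fun h0 => hk (by rw [h0]; exact dvd_zero q))]

universe u

/-- Kegel: an element of prime order outside `N` makes `N` nilpotent. -/
theorem isNilpotent_of_prime_order {G : Type u} [Group G] [Finite G] {N : Subgroup G} [N.Normal]
    (hP : IsPair N) {g : G} {p : ℕ} [Fact p.Prime] (hg : g ∉ N) (hp : g ^ p = 1) :
    Group.IsNilpotent N := by
  refine CfsgLib.Hughes.isNilpotent_of_splits (p := p) CfsgLib.Hughes.gtHyp (Nat.card N) N
    (MulAut.conjNormal g : MulAut N) rfl ⟨by rw [← map_pow, hp, map_one], fun x => Subtype.ext ?_⟩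
  have h := CfsgLib.Hughes.tprod_conjNormal g x p
  obtain ⟨y, hy⟩ := hP g hg (g⁻¹ * (x : G) * g)
    (by simpa using Subgroup.Normal.conj_mem (H := N) inferInstance _ x.2 g⁻¹)
  have e : g * (g⁻¹ * (x : G) * g) = (x : G) * g := by group
  rw [e] at hy
  rw [hp, mul_one, ← hy, conj_pow, hp, mul_one, mul_inv_cancel] at h
  rw [h, Subgroup.coe_one]

theorem exists_central_in_normal [Finite G] {q : ℕ} [Fact q.Prime] (T : Subgroup G) (hT : IsPGroup q T)
    (N : Subgroup G) [N.Normal] (h : q ∣ Nat.card ↥(T ⊓ N)) :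
    ∃ z ∈ T ⊓ N, orderOf z = q ∧ ∀ t ∈ T, t * z = z * t := by
  let M : Subgroup T := (T ⊓ N).subgroupOf T
  have hM : M.Normal := by
    refine ⟨fun x hx t => ?_⟩
    rw [Subgroup.mem_subgroupOf] at hx ⊢
    exact ⟨(t * x * t⁻¹).2, Subgroup.Normal.conj_mem inferInstance _ hx.2 (t : G)⟩
  have hMc : q ∣ Nat.card M := by
    rwa [Nat.card_congr (Subgroup.subgroupOfEquivOfLe (inf_le_left : T ⊓ N ≤ T)).toEquiv]
  haveI : Nontrivial M := by
    rw [← Finite.one_lt_card_iff_nontrivial]
    exact (Fact.out : q.Prime).one_lt.trans_le (Nat.le_of_dvd Nat.card_pos hMc)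
  haveI := hM
  haveI : Finite (ConjAct T) := Finite.of_equiv _ ConjAct.toConjAct.toEquiv
  have hTc : IsPGroup q (ConjAct T) := hT.of_equiv ConjAct.toConjAct
  obtain ⟨y, hy, hy1⟩ := hTc.exists_fixed_point_of_prime_dvd_card_of_fixed_point M hMc
    (a := 1) (fun t => smul_one t)
  have hyc : ∀ t ∈ T, t * ((y : T) : G) = ((y : T) : G) * t := fun t ht => by
    have h1 : ((ConjAct.toConjAct (⟨t, ht⟩ : T) • y : M) : T) = (y : T) :=
      congrArg Subtype.val (hy _)
    have h2 : (⟨t, ht⟩ : T) * (y : T) * (⟨t, ht⟩ : T)⁻¹ = (y : T) := h1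
    exact mul_inv_eq_iff_eq_mul.1 (congrArg Subtype.val h2)
  obtain ⟨m, hm⟩ := hT.exists_orderOf_eq_pow (y : T)
  have hm0 : m ≠ 0 := fun h0 => hy1 (Subtype.ext (orderOf_eq_one_iff.1 (by rw [hm, h0, pow_zero])).symm)
  refine ⟨((y : T) : G) ^ (q ^ (m - 1)), Subgroup.pow_mem _ y.2 _, ?_, fun t ht =>
    ((show Commute t ((y : T) : G) from hyc t ht).pow_right _).eq⟩
  have ho : orderOf ((y : T) : G) = q ^ m := by rw [Subgroup.orderOf_coe, hm]
  rw [orderOf_pow' _ (pow_ne_zero _ (Fact.out : q.Prime).ne_zero), ho,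
    Nat.gcd_eq_right (pow_dvd_pow q (Nat.sub_le m 1)), Nat.pow_div (Nat.sub_le m 1) (Fact.out : q.Prime).pos,
    show m - (m - 1) = 1 by omega, pow_one]

/-- Sylow subgroups meet normal subgroups of order divisible by the prime. -/
theorem dvd_card_inf [Finite G] {q : ℕ} [Fact q.Prime] (U : Sylow q G) (h : q ∣ Nat.card N) :
    q ∣ Nat.card ↥((U : Subgroup G) ⊓ N) := by
  obtain ⟨z, hz⟩ := exists_prime_orderOf_dvd_card' (G := N) q h
  obtain ⟨V, hV⟩ := (IsPGroup.of_card (p := q) (n := 1) (G := Subgroup.zpowers (z : G))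
    (by rw [Nat.card_zpowers, Subgroup.orderOf_coe, hz, pow_one])).exists_le_sylow
  obtain ⟨g, hg⟩ := MulAction.exists_smul_eq G V U
  have hm : g * z * g⁻¹ ∈ (U : Subgroup G) ⊓ N := by
    refine Subgroup.mem_inf.2 ⟨?_, Subgroup.Normal.conj_mem inferInstance _ z.2 g⟩
    rw [← hg, Sylow.coe_subgroup_smul]
    exact Subgroup.smul_mem_pointwise_smul _ (MulAut.conj g) _ (hV (Subgroup.mem_zpowers _))
  have ho : orderOf (⟨_, hm⟩ : ↥((U : Subgroup G) ⊓ N)) = q := by
    rw [Subgroup.orderOf_mk, show g * (z : G) * g⁻¹ = MulAut.conj g (z : G) from rfl, MulEquiv.orderOf_eq,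
      Subgroup.orderOf_coe, hz]
  exact dvd_trans (dvd_of_eq ho.symm) (orderOf_dvd_natCard _)

/-- Fixed-point-free Sylow image: no pair has `q` dividing both orders. -/
theorem false_of_centralized [Finite G] (hP : IsPair N) {q r : ℕ} [Fact q.Prime] [Fact r.Prime]
    (hqr : q ≠ r) (hqN : q ∣ Nat.card N) (hqi : q ∣ N.index) (Q : Sylow q G) (R : Subgroup G)
    (hR : IsPGroup r R) (hR1 : R ≠ ⊥) (hRN : R ≤ N) [R.Normal]
    (hQR : ∀ x ∈ (Q : Subgroup G), x ∈ N → ∀ y ∈ R, x * y = y * x) : False := by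
  haveI : Nontrivial R := (Subgroup.nontrivial_iff_ne_bot R).2 hR1
  let K : Subgroup (Q : Subgroup G) := N.subgroupOf Q
  let ψ : (Q : Subgroup G) →* MulAut R := (MulAut.conjNormal (H := R)).comp (Q : Subgroup G).subtype
  have hK : K ≤ ψ.ker := fun x hx => MonoidHom.mem_ker.2 (MulEquiv.ext fun y => Subtype.ext (by
    show (x : G) * y * (x : G)⁻¹ = y
    rw [hQR x x.2 hx y y.2, mul_inv_cancel_right]))
  let φ : ((Q : Subgroup G) ⧸ K) →* MulAut R := QuotientGroup.lift K ψ hK
  have hord : ∀ {y : G}, y ∈ R → ∃ m, orderOf y = r ^ m := fun {y} hy => by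
    obtain ⟨m, hm⟩ := hR.exists_orderOf_eq_pow ⟨y, hy⟩
    exact ⟨m, by rw [← hm, Subgroup.orderOf_mk]⟩
  have hfpf : ∀ a, a ≠ 1 → ∀ y : R, φ a y = y → y = 1 := by
    intro a ha y hy
    obtain ⟨x, rfl⟩ := QuotientGroup.mk'_surjective K a
    have hxN : (x : G) ∉ N := fun h => ha ((QuotientGroup.eq_one_iff x).2 h)
    have hy' : (x : G) * y * (x : G)⁻¹ = y := congrArg Subtype.val hy
    obtain ⟨a, hxa⟩ := Q.isPGroup'.exists_orderOf_eq_pow x
    obtain ⟨b, hyb⟩ := hord y.2
    exact Subtype.ext (eq_one_of_commute hP hxN (hRN y.2) (mul_inv_eq_iff_eq_mul.1 hy')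
      (by rw [Subgroup.orderOf_coe, hxa, hyb]
          exact Nat.coprime_pow_primes a b Fact.out Fact.out hqr) (orderOf_pos _))
  -- the image in the quotient by `N`
  let ι : ((Q : Subgroup G) ⧸ K) →* G ⧸ N :=
    QuotientGroup.map K N (Q : Subgroup G).subtype le_rfl
  have hι : Function.Injective ι := by
    rw [injective_iff_map_eq_one]
    intro a ha
    obtain ⟨x, rfl⟩ := QuotientGroup.mk'_surjective K a
    exact (QuotientGroup.eq_one_iff x).2 ((QuotientGroup.eq_one_iff (x : G)).1 ha)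
  have hQN : ¬ (Q : Subgroup G) ≤ N := fun h =>
    Q.not_dvd_index (hqi.trans (Subgroup.index_dvd_of_le h))
  -- an element of largest order
  haveI : Finite ((Q : Subgroup G) ⧸ K) := inferInstance
  obtain ⟨a₀, ha₀⟩ := Finite.exists_max (fun a : (Q : Subgroup G) ⧸ K => orderOf a)
  obtain ⟨x₀, rfl⟩ := QuotientGroup.mk'_surjective K a₀
  have hx₀N : (x₀ : G) ∉ N := by
    intro h
    obtain ⟨z, hz, hzN⟩ := SetLike.not_le_iff_exists.1 hQN
    have h0 : QuotientGroup.mk' K x₀ = 1 := (QuotientGroup.eq_one_iff x₀).2 (show x₀ ∈ K from h)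
    have h1 : orderOf (QuotientGroup.mk' K ⟨z, hz⟩) ≤ 1 := by
      have := ha₀ (QuotientGroup.mk' K ⟨z, hz⟩)
      rwa [h0, orderOf_one] at this
    exact hzN (show (⟨z, hz⟩ : (Q : Subgroup G)) ∈ K from (QuotientGroup.eq_one_iff _).1
      (orderOf_eq_one_iff.1 (le_antisymm h1 (orderOf_pos _))))
  set b : G ⧸ N := ι (QuotientGroup.mk' K x₀) with hb
  have hbx : b = ((x₀ : G) : G ⧸ N) := rfl
  -- every `q`-subgroup of the centraliser is small
  have hsmall : ∀ T : Subgroup (G ⧸ N), IsPGroup q T → T ≤ Subgroup.centralizer {b} →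
      Nat.card T ≤ orderOf b := by
    intro T hT hTc
    have hzb : IsPGroup q (Subgroup.zpowers b) := by
      obtain ⟨m, hm⟩ := Q.isPGroup'.exists_orderOf_eq_pow x₀
      refine fun ⟨y, i, hy⟩ => ⟨m, Subtype.ext ?_⟩
      show y ^ q ^ m = 1
      have hbm : b ^ q ^ m = 1 := by
        rw [hbx, ← QuotientGroup.mk_pow, ← Subgroup.coe_pow, ← hm, pow_orderOf_eq_one]
        rfl
      rw [← hy, ← zpow_natCast, ← zpow_mul, mul_comm, zpow_mul, zpow_natCast, hbm, one_zpow]
    have hn : Subgroup.zpowers b ≤ Subgroup.normalizer (T : Set (G ⧸ N)) := by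
      rw [Subgroup.zpowers_le, Subgroup.mem_normalizer_iff]
      intro t
      constructor
      · intro ht
        have := Subgroup.mem_centralizer_singleton_iff.1 (hTc ht)
        rwa [← this, mul_inv_cancel_right]
      · intro ht
        have h2 := Subgroup.mem_centralizer_singleton_iff.1 (hTc ht)
        have h5 : t = b * t * b⁻¹ := by
          have h6 : b * t * b⁻¹ * b = b * (b * t * b⁻¹) := h2
          rw [inv_mul_cancel_right] at h6
          exact mul_left_cancel h6
        rwa [h5]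
    obtain ⟨U, hU⟩ := (hT.to_sup_of_normal_left' hzb hn).exists_le_sylow
    obtain ⟨h, hh⟩ := MulAction.exists_smul_eq (G ⧸ N) U (Q.mapSurjective (QuotientGroup.mk'_surjective N))
    have hmem : ∀ t ∈ T ⊔ Subgroup.zpowers b, ∃ a, ι a = h * t * h⁻¹ := by
      intro t ht
      have h1 : MulAut.conj h t ∈ ((h • U : Sylow q (G ⧸ N)) : Subgroup (G ⧸ N)) := by
        rw [Sylow.coe_subgroup_smul, Subgroup.pointwise_smul_def]
        exact Subgroup.mem_map_of_mem _ (hU ht)
      rw [hh, Sylow.coe_mapSurjective] at h1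
      obtain ⟨y, hy, hyt⟩ := h1
      exact ⟨QuotientGroup.mk' K ⟨y, hy⟩, hyt⟩
    obtain ⟨c, hc⟩ := hmem b (Subgroup.mem_sup_right (Subgroup.mem_zpowers b))
    have hoc : orderOf c = orderOf b := by
      rw [← orderOf_injective ι hι c, hc, show h * b * h⁻¹ = MulAut.conj h b from rfl,
        MulEquiv.orderOf_eq]
    have hmax : ∀ a, orderOf a ≤ orderOf c := fun a => by
      rw [hoc, hb, orderOf_injective ι hι]
      exact ha₀ a
    suffices hle : ∀ t ∈ T, t ∈ Subgroup.zpowers b by
      exact (Subgroup.card_le_of_le (fun t ht => hle t ht)).trans (le_of_eq (Nat.card_zpowers b))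
    intro t ht
    obtain ⟨d, hd⟩ := hmem t (Subgroup.mem_sup_left ht)
    have hcd : Commute c d := hι (by
      rw [map_mul, map_mul, hc, hd]
      have := Subgroup.mem_centralizer_singleton_iff.1 (hTc ht)
      calc h * b * h⁻¹ * (h * t * h⁻¹) = h * (b * t) * h⁻¹ := by group
        _ = h * (t * b) * h⁻¹ := by rw [this]
        _ = _ := by group)
    let B : Subgroup ((Q : Subgroup G) ⧸ K) := Subgroup.closure {c, d}
    have hBc : IsMulCommutative B := Subgroup.isMulCommutative_closure (by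
      rintro x (rfl | rfl) y (rfl | rfl)
      exacts [rfl, hcd.eq, hcd.symm.eq, rfl])
    haveI := CfsgLib.Frobenius.FPF.isCyclic_of_comm hfpf B hBc
    have hdz : (⟨d, Subgroup.subset_closure (Or.inr rfl)⟩ : B) ∈
        Subgroup.zpowers (⟨c, Subgroup.subset_closure (Or.inl rfl)⟩ : B) := by
      classical
      letI : Fintype B := Fintype.ofFinite B
      set c' : B := ⟨c, Subgroup.subset_closure (Or.inl rfl)⟩
      set d' : B := ⟨d, Subgroup.subset_closure (Or.inr rfl)⟩
      have hop : orderOf d' ∣ orderOf c' := by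
        have hQK : IsPGroup q ((Q : Subgroup G) ⧸ K) :=
          Q.isPGroup'.to_quotient K
        obtain ⟨i, hi⟩ := hQK.exists_orderOf_eq_pow c
        obtain ⟨j, hj⟩ := hQK.exists_orderOf_eq_pow d
        rw [Subgroup.orderOf_mk, Subgroup.orderOf_mk, hi, hj]
        refine pow_dvd_pow q ((Nat.pow_le_pow_iff_right (Fact.out : q.Prime).one_lt).1 ?_)
        rw [← hi, ← hj]
        exact hmax d
      by_contra hnot
      have h1 := IsCyclic.card_pow_eq_one_le (α := B) (orderOf_pos c')
      have h2 : insert d' (Finset.univ.filter fun y => y ∈ Subgroup.zpowers c') ⊆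
          Finset.univ.filter fun y => y ^ orderOf c' = 1 := by
        intro y hy
        simp only [Finset.mem_insert, Finset.mem_filter, Finset.mem_univ, true_and] at hy ⊢
        rcases hy with rfl | ⟨i, rfl⟩
        · exact orderOf_dvd_iff_pow_eq_one.1 hop
        · show (c' ^ i) ^ orderOf c' = 1
          rw [← zpow_natCast, zpow_comm, zpow_natCast, pow_orderOf_eq_one, one_zpow]
      have h3 := Finset.card_le_card h2
      rw [Finset.card_insert_of_notMem (by simpa using hnot),
        ← Fintype.card_subtype, ← Nat.card_eq_fintype_card] at h3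
      have h4 : Nat.card {y // y ∈ Subgroup.zpowers c'} = orderOf c' := Nat.card_zpowers c'
      omega
    obtain ⟨i, hi⟩ := hdz
    have hi' : c ^ i = d := congrArg Subtype.val hi
    refine ⟨i, ?_⟩
    show b ^ i = t
    have := congrArg ι hi'
    rw [map_zpow, hc, hd, conj_zpow] at this
    exact mul_left_cancel (mul_right_cancel this)
  have hcardC := card_centralizer hP hx₀N
  rw [← hbx] at hcardC
  have hbound : ∀ T : Subgroup G, IsPGroup q T → T ≤ Subgroup.centralizer {(x₀ : G)} →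
      Nat.card T ≤ orderOf b := by
    intro T hT hTc
    obtain ⟨n, hn⟩ := hT.exists_card_eq
    have hd : q ^ n ∣ Nat.card (Subgroup.centralizer {b}) :=
      hn ▸ hcardC ▸ Subgroup.card_dvd_of_le hTc
    obtain ⟨W⟩ : Nonempty (Sylow q (Subgroup.centralizer {b})) := inferInstance
    have h1 : q ^ n ∣ Nat.card (W : Subgroup (Subgroup.centralizer {b})) :=
      W.pow_dvd_card_of_pow_dvd_card hd
    rw [hn]
    refine (Nat.le_of_dvd Nat.card_pos h1).trans ?_
    have h2 := hsmall ((W : Subgroup (Subgroup.centralizer {b})).map (Subgroup.centralizer {b}).subtype)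
      (W.isPGroup'.map _) (Subgroup.map_subtype_le _)
    rwa [Subgroup.card_map_of_injective (Subgroup.subtype_injective _)] at h2
  -- a central element of the Sylow subgroup inside `N`
  have hqQN : q ∣ Nat.card ↥((Q : Subgroup G) ⊓ N) := dvd_card_inf Q hqN
  obtain ⟨z, ⟨hzQ, hzN⟩, hzo, hzc⟩ := exists_central_in_normal (Q : Subgroup G) Q.isPGroup' N hqQN
  have hxo : orderOf (x₀ : G) ≤ orderOf b := by
    have h := hbound (Subgroup.zpowers (x₀ : G))
      (Q.isPGroup'.to_le (Subgroup.zpowers_le.2 x₀.2))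
      (Subgroup.zpowers_le.2 (Subgroup.mem_centralizer_singleton_iff.2 rfl))
    rwa [Nat.card_zpowers] at h
  have hx1 : (x₀ : G) ^ orderOf b = 1 := by
    have : orderOf b ∣ orderOf (x₀ : G) := hbx ▸ orderOf_map_dvd (QuotientGroup.mk' N) (x₀ : G)
    rw [le_antisymm (Nat.le_of_dvd (orderOf_pos _) this) hxo, pow_orderOf_eq_one]
  have hzX : z ∉ Subgroup.zpowers (x₀ : G) := by
    rintro ⟨i, hi⟩
    have h2 : b ^ i = 1 := by
      rw [hbx, ← QuotientGroup.mk_zpow, QuotientGroup.eq_one_iff, show (x₀ : G) ^ i = z from hi]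
      exact hzN
    obtain ⟨j, rfl⟩ := orderOf_dvd_iff_zpow_eq_one.2 h2
    simp only at hi
    rw [show (x₀ : G) ^ ((orderOf b : ℤ) * j) = 1 by rw [zpow_mul, zpow_natCast, hx1, one_zpow]] at hi
    rw [← hi, orderOf_one] at hzo
    exact (Fact.out : q.Prime).ne_one hzo.symm
  have hT := hbound (Subgroup.zpowers (x₀ : G) ⊔ Subgroup.zpowers z)
    (Q.isPGroup'.to_le (sup_le (Subgroup.zpowers_le.2 x₀.2) (Subgroup.zpowers_le.2 hzQ)))
    (sup_le (Subgroup.zpowers_le.2 (Subgroup.mem_centralizer_singleton_iff.2 rfl))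
      (Subgroup.zpowers_le.2 (Subgroup.mem_centralizer_singleton_iff.2 (hzc _ x₀.2).symm)))
  have hlt : Subgroup.zpowers (x₀ : G) < Subgroup.zpowers (x₀ : G) ⊔ Subgroup.zpowers z :=
    lt_of_le_of_ne le_sup_left fun e => hzX (e ▸ Subgroup.mem_sup_right (Subgroup.mem_zpowers z))
  have := Set.ncard_lt_ncard (SetLike.coe_ssubset_coe.2 hlt) (Set.toFinite _)
  rw [← Nat.card_coe_set_eq, ← Nat.card_coe_set_eq] at this
  simp only [SetLike.coe_sort_coe] at this
  rw [Nat.card_zpowers] at this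
  have hob : orderOf b ≤ orderOf (x₀ : G) :=
    Nat.le_of_dvd (orderOf_pos _) (hbx ▸ orderOf_map_dvd (QuotientGroup.mk' N) (x₀ : G))
  omega

/-- Normal Sylow subgroups of `N` are normal in `G`. -/
theorem map_sylow_normal [Finite G] {q : ℕ} [Fact q.Prime] (P : Sylow q N) (h : (P : Subgroup N).Normal) :
    ((P : Subgroup N).map N.subtype).Normal := by
  haveI : (P : Subgroup N).Characteristic := P.characteristic_of_normal h
  infer_instance

theorem not_dvd_both_step (n : ℕ) (ih : ∀ m < n, ∀ {G : Type u} [Group G] [Finite G] (N : Subgroup G) [N.Normal],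
    Nat.card G = m → IsPair N → ∀ {q s : ℕ}, q.Prime → s.Prime → q ≠ s → q ∣ Nat.card N → q ∣ N.index →
    s ∣ Nat.card N → s ∣ N.index → False)
    {G : Type u} [Group G] [Finite G] (N : Subgroup G) [N.Normal] (hn : Nat.card G = n) (hP : IsPair N)
    {q s : ℕ} (hq : q.Prime) (hs : s.Prime) (hqs : q ≠ s) (hqN : q ∣ Nat.card N) (hqi : q ∣ N.index)
    (hsN : s ∣ Nat.card N) (hsi : s ∣ N.index) (S : Sylow s N)
    (htop : Subgroup.normalizer (((S : Subgroup N).map N.subtype : Subgroup G) : Set G) ≠ ⊤) : False := by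
  haveI := Fact.mk hq
  haveI := Fact.mk hs
  set H := Subgroup.normalizer (((S : Subgroup N).map N.subtype : Subgroup G) : Set G) with hH
  have hsup : H ⊔ N = ⊤ := Sylow.normalizer_sup_eq_top S
  obtain ⟨hpH, hcent⟩ := hP.of_sup_eq_top hsup
  have hidx : (N.subgroupOf H).index = N.index := by
    show N.relIndex H = N.index
    rw [← Subgroup.relIndex_sup_right, show H ⊔ N = ⊤ from hsup, Subgroup.relIndex_top_right]
  have hSN : s ∣ Nat.card (N.subgroupOf H) := by
    have hle : (S : Subgroup N).map N.subtype ≤ N ⊓ H :=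
      le_inf (Subgroup.map_subtype_le _) Subgroup.le_normalizer
    rw [← Subgroup.inf_subgroupOf_right, Nat.card_congr (Subgroup.subgroupOfEquivOfLe inf_le_right).toEquiv]
    refine dvd_trans ?_ (Subgroup.card_dvd_of_le hle)
    rw [Subgroup.card_map_of_injective N.subtype_injective]
    exact S.dvd_card_of_dvd_card hsN
  have hlt : Nat.card H < n := hn ▸ Nat.lt_of_le_of_ne
    (Nat.le_of_dvd Nat.card_pos (Subgroup.card_subgroup_dvd_card H)) fun e => htop (Subgroup.eq_top_of_card_eq H e)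
  have hqH : ¬ q ∣ Nat.card (N.subgroupOf H) := fun h =>
    ih _ hlt (N.subgroupOf H) rfl hpH hq hs hqs h (hidx ▸ hqi) hSN (hidx ▸ hsi)
  -- a `q`-element of `H` outside `N`
  obtain ⟨T⟩ : Nonempty (Sylow q H) := inferInstance
  have hTN : ¬ (T : Subgroup H) ≤ N.subgroupOf H := fun h =>
    T.not_dvd_index ((hidx ▸ hqi).trans (Subgroup.index_dvd_of_le h))
  obtain ⟨g, hgT, hgN⟩ := SetLike.not_le_iff_exists.1 hTN
  obtain ⟨U, hU⟩ := (T.isPGroup'.map H.subtype).exists_le_sylow
  have hUN : q ∣ Nat.card ↥((U : Subgroup G) ⊓ N) := dvd_card_inf U hqN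
  obtain ⟨z, hz, hzo, hzc⟩ := exists_central_in_normal (U : Subgroup G) U.isPGroup' N hUN
  have hgU : (g : G) ∈ (U : Subgroup G) := hU ⟨g, hgT, rfl⟩
  have hzH : z ∈ H := hcent g g.2 hgN
    (Subgroup.mem_centralizer_singleton_iff.2 (hzc _ hgU).symm)
  refine hqH ?_
  rw [← hzo, ← Subgroup.orderOf_mk z hzH]
  exact (Subgroup.orderOf_mk (⟨z, hzH⟩ : H) (show _ ∈ N.subgroupOf H from hz.2)) ▸ orderOf_dvd_natCard _


theorem not_dvd_both_two (n : ℕ) : ∀ {G : Type u} [Group G] [Finite G] (N : Subgroup G) [N.Normal],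
    Nat.card G = n → IsPair N → ∀ {q s : ℕ}, q.Prime → s.Prime → q ≠ s → q ∣ Nat.card N → q ∣ N.index →
      s ∣ Nat.card N → s ∣ N.index → False := by
  induction n using Nat.strong_induction_on with
  | _ n ih =>
  intro G _ _ N _ hn hP q s hq hs hqs hqN hqi hsN hsi
  haveI := Fact.mk hq
  haveI := Fact.mk hs
  obtain ⟨S⟩ : Nonempty (Sylow s N) := inferInstance
  set S' := (S : Subgroup N).map N.subtype with hS'
  set H := Subgroup.normalizer (S' : Set G) with hH
  have hsup : H ⊔ N = ⊤ := Sylow.normalizer_sup_eq_top S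
  obtain ⟨Q⟩ : Nonempty (Sylow q G) := inferInstance
  by_cases htop : H = ⊤
  · haveI hS'n : S'.Normal := Subgroup.normalizer_eq_top_iff.1 htop
    obtain ⟨P⟩ : Nonempty (Sylow q N) := inferInstance
    set P' := (P : Subgroup N).map N.subtype with hP'
    set H₂ := Subgroup.normalizer (P' : Set G) with hH2
    by_cases htop2 : H₂ = ⊤
    · haveI hP'n : P'.Normal := Subgroup.normalizer_eq_top_iff.1 htop2
      haveI : (P : Subgroup N).Normal := by
        have : (P : Subgroup N) = P'.subgroupOf N := by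
          rw [hP', Subgroup.subgroupOf, Subgroup.comap_map_eq_self_of_injective N.subtype_injective]
        rw [this]
        exact Subgroup.normal_subgroupOf
      refine false_of_centralized hP hqs hqN hqi Q S' (S.isPGroup'.map _) (fun e => ?_)
        (Subgroup.map_subtype_le _) fun x hx hxN y hy => ?_
      · rw [hS', Subgroup.map_eq_bot_iff_of_injective _ N.subtype_injective] at e
        exact S.ne_bot_of_dvd_card hsN e
      · have hxP : x ∈ P' := by
          have hp : IsPGroup q ((Q : Subgroup G).subgroupOf N) :=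
            Q.isPGroup'.comap_of_injective _ N.subtype_injective
          obtain ⟨P₂, hP₂⟩ := hp.exists_le_sylow
          haveI := P.unique_of_normal inferInstance
          rw [Subsingleton.elim P₂ P] at hP₂
          exact ⟨⟨x, hxN⟩, hP₂ hx, rfl⟩
        have hd : _root_.Disjoint P' S' := by
          rw [disjoint_iff, eq_bot_iff]
          intro w hw
          rw [Subgroup.mem_bot]
          exact (IsPGroup.disjoint_of_ne q s hqs P' S' (P.isPGroup'.map _) (S.isPGroup'.map _)).le_bot hw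
        exact Subgroup.commute_of_normal_of_disjoint _ _ hP'n hS'n hd x y hxP hy
    · exact not_dvd_both_step n ih N hn hP hs hq hqs.symm hsN hsi hqN hqi P htop2
  · exact not_dvd_both_step n ih N hn hP hq hs hqs hqN hqi hsN hsi S htop
/-- The trichotomy for a pair. -/
theorem trichotomy {G : Type u} [Group G] [Finite G] {N : Subgroup G} [N.Normal] (hN1 : N ≠ ⊥)
    (hN2 : N ≠ ⊤) (hP : IsPair N) :
    (∀ x ∈ N, x ≠ 1 → Subgroup.centralizer ({x} : Set G) ≤ N) ∨ IsPrimePow (Nat.card N) ∨
      IsPrimePow N.index := by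
  by_contra hcon
  push Not at hcon
  obtain ⟨⟨x, hxN, hx1, hxC⟩, hNp, hip⟩ := hcon
  obtain ⟨g, hgC, hgN⟩ := SetLike.not_le_iff_exists.1 hxC
  rw [Subgroup.mem_centralizer_singleton_iff] at hgC
  obtain ⟨q, hq, hqi, k, hk, m, hm⟩ := exists_primePow_not_mem hgN
  haveI := Fact.mk hq
  have hqx : q ∣ orderOf x := by
    by_contra hnd
    exact hx1 (eq_one_of_commute hP hk hxN ((show Commute g x from hgC).pow_left k)
      (by rw [hm]; exact Nat.Coprime.pow_left m (hq.coprime_iff_not_dvd.2 hnd)) (orderOf_pos _))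
  have hqN : q ∣ Nat.card N := hqx.trans (Subgroup.orderOf_mk x hxN ▸ orderOf_dvd_natCard _)
  have other : ∀ n : ℕ, n ≠ 0 → q ∣ n → ¬ IsPrimePow n → ∃ r, r.Prime ∧ r ∣ n ∧ r ≠ q := by
    intro n hn0 hqn hnp
    by_contra hno
    push Not at hno
    apply hnp
    rw [Nat.eq_prime_pow_of_unique_prime_dvd hn0 (fun {d} hd hdn => hno d hd hdn)]
    refine (Nat.prime_iff.1 hq).isPrimePow.pow ?_
    intro h0
    have := Nat.eq_prime_pow_of_unique_prime_dvd hn0 (fun {d} hd hdn => hno d hd hdn)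
    rw [h0, pow_zero] at this
    exact hq.ne_one (Nat.dvd_one.1 (this ▸ hqn))
  obtain ⟨s, hs, hsi, hsq⟩ := other _ N.index_ne_zero_of_finite hqi hip
  obtain ⟨r, hr, hrN, hrq⟩ := other _ Nat.card_pos.ne' hqN hNp
  haveI := Fact.mk hs
  haveI := Fact.mk hr
  by_cases hsN : s ∣ Nat.card N
  · exact not_dvd_both_two _ N rfl hP hq hs hsq.symm hqN hqi hsN hsi
  obtain ⟨e, he⟩ := exists_prime_orderOf_dvd_card' (G := G) s (hsi.trans N.index_dvd_card)
  have heN : e ∉ N := fun h => hsN (he ▸ Subgroup.orderOf_mk e h ▸ orderOf_dvd_natCard _)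
  have hnil := isNilpotent_of_prime_order (p := s) hP heN (he ▸ pow_orderOf_eq_one e)
  have hsyl : ∀ (t : ℕ) [Fact t.Prime] (P : Sylow t N), (P : Subgroup N).Normal := fun t _ P =>
    ((Group.isNilpotent_of_finite_tfae (G := N)).out 0 3 rfl rfl).mp hnil t inferInstance P
  obtain ⟨P⟩ : Nonempty (Sylow q N) := inferInstance
  obtain ⟨R⟩ : Nonempty (Sylow r N) := inferInstance
  obtain ⟨Q⟩ : Nonempty (Sylow q G) := inferInstance
  haveI := hsyl r R
  haveI := hsyl q P
  haveI hRn := map_sylow_normal R (hsyl r R)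
  haveI hPn := map_sylow_normal P (hsyl q P)
  refine false_of_centralized hP hrq.symm hqN hqi Q _ (R.isPGroup'.map N.subtype) (fun e => ?_)
    (Subgroup.map_subtype_le _) fun x hx hxN y hy => ?_
  · rw [Subgroup.map_eq_bot_iff_of_injective _ N.subtype_injective] at e
    exact R.ne_bot_of_dvd_card hrN e
  · obtain ⟨P₂, hP₂⟩ := (Q.isPGroup'.comap_of_injective N.subtype N.subtype_injective).exists_le_sylow
    haveI := P.unique_of_normal inferInstance
    rw [Subsingleton.elim P₂ P] at hP₂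
    exact Subgroup.commute_of_normal_of_disjoint _ _ hPn hRn
      (IsPGroup.disjoint_of_ne q r hrq.symm _ _ (P.isPGroup'.map _) (R.isPGroup'.map _)) x y
      ⟨⟨x, hxN⟩, hP₂ hx, rfl⟩ hy

end CfsgLib.Camina
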